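import Mathlib
import Groth.Prelude.Def_W4c2quivmodsheafKron

/-! Elementary semistability facts for Kronecker modules. -/

set_option autoImplicit false

universe u v w

namespace Groth.Agent.KronModLib

open Module KronMod

variable {K : Type u} [Field K] {V : Type v} {W : Type w}
  [AddCommGroup V] [Module K V] [FiniteDimensional K V]
  [AddCommGroup W] [Module K W] [FiniteDimensional K W] {n : ℕ} (f : Fin n → (V →ₗ[K] W))

/-- The total map out of the source. -/
def Φ : (Fin n → V) →ₗ[K] W := ∑ j, f j ∘ₗ LinearMap.proj j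

theorem Φ_apply (v : Fin n → V) : Φ f v = ∑ j, f j (v j) := by simp [Φ, LinearMap.sum_apply]

theorem Φ_single (j : Fin n) (v : V) : Φ f (Pi.single j v) = f j v := by
  rw [Φ_apply, Finset.sum_eq_single j (fun i _ hi => by rw [Pi.single_eq_of_ne hi, map_zero]) (by simp),
    Pi.single_eq_same]

/-- The total map into the target. -/
def Ψ : V →ₗ[K] (Fin n → W) := LinearMap.pi f

theorem isSubrep_range : IsSubrep f ⊤ (LinearMap.range (Φ f)) := fun j => by
  rintro _ ⟨v, -, rfl⟩; exact ⟨Pi.single j v, Φ_single f j v⟩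

theorem isSubrep_ker : IsSubrep f (LinearMap.ker (Ψ f)) ⊥ := fun j => by
  rintro _ ⟨v, hv, rfl⟩; exact congrFun (LinearMap.mem_ker.1 hv) j

theorem finrank_pi (M : Type*) [AddCommGroup M] [Module K M] [FiniteDimensional K M] :
    finrank K (Fin n → M) = n * finrank K M := by
  rw [Module.finrank_pi_fintype K, Finset.sum_const, Finset.card_univ, Fintype.card_fin, smul_eq_mul]

theorem not_isSemistable (hV : 0 < finrank K V) (hW : 0 < finrank K W)
    (h : n * finrank K V < finrank K W ∨ n * finrank K W < finrank K V) : ¬ IsSemistable f := by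
  rintro ⟨-, hs⟩
  rcases h with h | h
  · have h1 := (LinearMap.finrank_range_le (Φ f)).trans_eq (finrank_pi V)
    have := hs ⊤ _ (isSubrep_range f) (fun h0 => by rw [← finrank_top K V, h0.1, finrank_bot] at hV; omega)
      (fun h0 => by rw [h0.2, finrank_top] at h1; omega)
    rw [finrank_top] at this
    nlinarith
  · have h1 := LinearMap.finrank_range_add_finrank_ker (Ψ f)
    have h2 := (Submodule.finrank_le (LinearMap.range (Ψ f))).trans_eq (finrank_pi W)
    have := hs _ ⊥ (isSubrep_ker f) (fun h0 => by rw [h0.1, finrank_bot] at h1; omega)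
      (fun h0 => by rw [← finrank_top K W, ← h0.2, finrank_bot] at hW; omega)
    rw [finrank_bot, mul_zero] at this
    nlinarith

theorem finrank_le_of_isSubrep (hb : Function.Injective (Φ f)) {V' : Submodule K V} {W' : Submodule K W}
    (h : IsSubrep f V' W') : n * finrank K V' ≤ finrank K W' := by
  rw [← finrank_pi V']
  refine LinearMap.finrank_le_finrank_of_injective (f := (Φ f ∘ₗ LinearMap.pi fun j => V'.subtype ∘ₗ LinearMap.proj j).codRestrict W' fun v => ?_) fun a b hab => ?_
  · rw [LinearMap.comp_apply, Φ_apply]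
    exact sum_mem fun j _ => h j ⟨_, (v j).2, rfl⟩
  · have := hb (congrArg Subtype.val hab)
    exact funext fun j => Subtype.ext (congrFun this j)

theorem finrank_le_of_isSubrep' (hb : Function.Injective (Ψ f)) {V' : Submodule K V} {W' : Submodule K W}
    (h : IsSubrep f V' W') : finrank K V' ≤ n * finrank K W' := by
  rw [← finrank_pi W']
  refine LinearMap.finrank_le_finrank_of_injective
    (f := LinearMap.pi fun j => ((f j) ∘ₗ V'.subtype).codRestrict W' fun v => h j ⟨v, v.2, rfl⟩) fun a b hab => ?_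
  exact Subtype.ext (hb (funext fun j => congrArg Subtype.val (congrFun hab j)))

theorem isSemistable_iff_bijective (hV : 0 < finrank K V) (hW : finrank K W = n * finrank K V) :
    IsSemistable f ↔ Function.Bijective (Φ f) := by
  constructor
  · rintro ⟨-, hs⟩
    have hd : finrank K (Fin n → V) = finrank K W := by rw [finrank_pi, hW]
    have hsurj : Function.Surjective (Φ f) := by
      rw [← LinearMap.range_eq_top]
      by_contra hne
      have := hs ⊤ _ (isSubrep_range f) (fun h0 => by rw [← finrank_top K V, h0.1, finrank_bot] at hV; omega) fun h0 => hne h0.2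
      rw [finrank_top, mul_comm] at this
      exact hne (Submodule.eq_top_of_finrank_eq (le_antisymm (Submodule.finrank_le _) (Nat.le_of_mul_le_mul_left this hV)))
    exact ⟨(LinearMap.injective_iff_surjective_of_finrank_eq_finrank hd).2 hsurj, hsurj⟩
  · intro hb
    refine ⟨by omega, fun V' W' h _ _ => ?_⟩
    have := finrank_le_of_isSubrep f hb.1 h
    rw [hW]
    nlinarith

theorem isSemistable_iff_bijective' (hW : 0 < finrank K W) (hV : finrank K V = n * finrank K W) :
    IsSemistable f ↔ Function.Bijective (Ψ f) := by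
  constructor
  · rintro ⟨-, hs⟩
    have hd : finrank K V = finrank K (Fin n → W) := by rw [finrank_pi, hV]
    have hinj : Function.Injective (Ψ f) := by
      rw [← LinearMap.ker_eq_bot]
      by_contra hne
      have := hs _ ⊥ (isSubrep_ker f) (fun h0 => hne h0.1) (fun h0 => by rw [← finrank_top K W, ← h0.2, finrank_bot] at hW; omega)
      rw [finrank_bot, mul_zero, Nat.le_zero, mul_eq_zero] at this
      exact hne (Submodule.finrank_eq_zero.1 (this.resolve_left (by omega)))
    exact ⟨hinj, (LinearMap.injective_iff_surjective_of_finrank_eq_finrank hd).1 hinj⟩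
  · intro hb
    refine ⟨by omega, fun V' W' h _ _ => ?_⟩
    have := finrank_le_of_isSubrep' f hb.1 h
    rw [hV]
    nlinarith

omit [FiniteDimensional K V] [FiniteDimensional K W] in
theorem isSemistable_of_isStable (h : IsStable f) : IsSemistable f :=
  ⟨h.1, fun V' W' hr h0 h1 => (h.2 V' W' hr h0 h1).le⟩

theorem isStable_iff (hV : 0 < finrank K V) (hW : finrank K W = n * finrank K V) :
    IsStable f ↔ IsSemistable f ∧ finrank K V = 1 := by
  constructor
  · intro h
    refine ⟨isSemistable_of_isStable f h, ?_⟩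
    have hb := (isSemistable_iff_bijective f hV hW).1 (isSemistable_of_isStable f h)
    by_contra hne
    haveI : Nontrivial V := Module.finrank_pos_iff.1 hV
    obtain ⟨v, hv⟩ := exists_ne (0 : V)
    let L := K ∙ v
    let W' := LinearMap.range (Φ f ∘ₗ LinearMap.pi fun j : Fin n => L.subtype ∘ₗ LinearMap.proj j)
    have hr : IsSubrep f L W' := fun j => by
      rintro _ ⟨x, hx, rfl⟩
      refine ⟨Pi.single j ⟨x, hx⟩, ?_⟩
      rw [LinearMap.comp_apply, show (LinearMap.pi fun j : Fin n => L.subtype ∘ₗ LinearMap.proj j) (Pi.single j ⟨x, hx⟩) = Pi.single j x from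
        funext fun i => by by_cases hi : i = j
                           · subst hi; simp
                           · simp [Pi.single_eq_of_ne hi], Φ_single]
    have hL : finrank K L = 1 := finrank_span_singleton hv
    have hW' : finrank K W' ≤ n := (LinearMap.finrank_range_le _).trans_eq (by rw [finrank_pi, hL, mul_one])
    have := h.2 L W' hr (fun h0 => hv (by simpa [L] using h0.1)) (fun h0 => by rw [h0.1, finrank_top] at hL; exact hne hL)
    rw [hL, mul_one, hW] at this
    nlinarith
  · rintro ⟨hs, h1⟩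
    refine ⟨hs.1, fun V' W' hr h0 hT => ?_⟩
    have hb := (isSemistable_iff_bijective f hV hW).1 hs
    have hV' := Submodule.finrank_le V'
    rcases Nat.eq_zero_or_pos (finrank K V') with hz | hz
    · rw [hz, mul_zero, h1, one_mul]
      exact Nat.pos_of_ne_zero fun h2 => h0 ⟨Submodule.finrank_eq_zero.1 hz, Submodule.finrank_eq_zero.1 h2⟩
    · have hVt : V' = ⊤ := Submodule.eq_top_of_finrank_eq (by omega)
      exact absurd ⟨hVt, eq_top_iff.2 fun x _ => by
        obtain ⟨v, rfl⟩ := hb.2 x
        rw [Φ_apply]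
        exact sum_mem fun j _ => hr j ⟨v j, hVt ▸ trivial, rfl⟩⟩ hT

theorem isStable_iff' (hW : 0 < finrank K W) (hV : finrank K V = n * finrank K W) :
    IsStable f ↔ IsSemistable f ∧ finrank K W = 1 := by
  constructor
  · intro h
    refine ⟨isSemistable_of_isStable f h, ?_⟩
    have hb := (isSemistable_iff_bijective' f hW hV).1 (isSemistable_of_isStable f h)
    by_contra hne
    haveI : Nontrivial W := Module.finrank_pos_iff.1 hW
    obtain ⟨w, hw⟩ := exists_ne (0 : W)
    let L := K ∙ w
    have hL : finrank K L = 1 := finrank_span_singleton hw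
    let e := LinearEquiv.ofBijective (Ψ f) hb
    let ι : (Fin n → L) →ₗ[K] V := e.symm.toLinearMap ∘ₗ LinearMap.pi fun j => L.subtype ∘ₗ LinearMap.proj j
    have hι : Function.Injective ι := e.symm.injective.comp fun a b hab => funext fun j => Subtype.ext (congrFun hab j)
    have hr : IsSubrep f (LinearMap.range ι) L := fun j => by
      rintro _ ⟨_, ⟨x, rfl⟩, rfl⟩
      show Ψ f (e.symm _) j ∈ L
      rw [show Ψ f (e.symm _) = _ from e.apply_symm_apply _]
      exact (x j).2
    have := h.2 _ L hr (fun h0 => hw (by simpa [L] using h0.2)) (fun h0 => by rw [h0.2, finrank_top] at hL; exact hne hL)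
    rw [hL, mul_one, LinearMap.finrank_range_of_inj hι, finrank_pi, hL, mul_one, hV] at this
    nlinarith
  · rintro ⟨hs, h1⟩
    refine ⟨hs.1, fun V' W' hr h0 hT => ?_⟩
    have hle := finrank_le_of_isSubrep' f ((isSemistable_iff_bijective' f hW hV).1 hs).1 hr
    have hW' := Submodule.finrank_le W'
    rcases Nat.eq_zero_or_pos (finrank K W') with hz | hz
    · rw [hz, mul_zero, Nat.le_zero] at hle
      exact absurd ⟨Submodule.finrank_eq_zero.1 hle, Submodule.finrank_eq_zero.1 hz⟩ h0
    · have hWt : W' = ⊤ := Submodule.eq_top_of_finrank_eq (by omega)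
      have : finrank K V' < finrank K V := Submodule.finrank_lt fun hVt => hT ⟨hVt, hWt⟩
      rw [show finrank K W' = 1 by omega, h1]
      omega

theorem isSubrep_dual {V' : Submodule K V} {W' : Submodule K W} (h : IsSubrep f V' W') :
    IsSubrep (fun j => (f j).dualMap) W'.dualAnnihilator V'.dualAnnihilator := fun j => by
  rintro _ ⟨a, ha, rfl⟩
  rw [Submodule.mem_dualAnnihilator]
  intro x hx
  exact (Submodule.mem_dualAnnihilator a).1 ha _ (h j ⟨x, hx, rfl⟩)

theorem isSubrep_coann {A : Submodule K (Dual K W)} {B : Submodule K (Dual K V)}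
    (h : IsSubrep (fun j => (f j).dualMap) A B) : IsSubrep f B.dualCoannihilator A.dualCoannihilator := fun j => by
  rintro _ ⟨x, hx, rfl⟩
  rw [Submodule.mem_dualCoannihilator]
  intro a ha
  exact (Submodule.mem_dualCoannihilator x).1 hx _ (h j ⟨a, ha, rfl⟩)

/-- Numerical form of a stability condition. -/
def Cond (P : ℕ → ℕ → Prop) {V : Type v} {W : Type w} [AddCommGroup V] [Module K V]
    [AddCommGroup W] [Module K W] (g : Fin n → (V →ₗ[K] W)) : Prop :=
  0 < finrank K V + finrank K W ∧ ∀ (V' : Submodule K V) (W' : Submodule K W), IsSubrep g V' W' →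
    ¬ (V' = ⊥ ∧ W' = ⊥) → ¬ (V' = ⊤ ∧ W' = ⊤) → P (finrank K W * finrank K V') (finrank K V * finrank K W')

theorem cond_dual_iff {R : ℕ → ℕ → Prop}
    (hR : ∀ dV dW a b : ℕ, a ≤ dV → b ≤ dW → (R (dW * a) (dV * b) ↔ R (dV * (dW - b)) (dW * (dV - a)))) :
    Cond R f ↔ Cond R (fun j => (f j).dualMap) := by
  have hdV : finrank K (Dual K V) = finrank K V := Subspace.dual_finrank_eq
  have hdW : finrank K (Dual K W) = finrank K W := Subspace.dual_finrank_eq
  constructor
  · rintro ⟨h0, hs⟩
    refine ⟨by omega, fun A B hr hb ht => ?_⟩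
    have eA := Subspace.finrank_add_finrank_dualCoannihilator_eq A
    have eB := Subspace.finrank_add_finrank_dualCoannihilator_eq B
    have := hs _ _ (isSubrep_coann f hr) (fun ⟨h1, h2⟩ => ht
      ⟨Submodule.eq_top_of_finrank_eq (by rw [h2, finrank_bot] at eA; omega),
        Submodule.eq_top_of_finrank_eq (by rw [h1, finrank_bot] at eB; omega)⟩) (fun ⟨h1, h2⟩ => hb
      ⟨Submodule.finrank_eq_zero.1 (by rw [h2, finrank_top] at eA; omega),
        Submodule.finrank_eq_zero.1 (by rw [h1, finrank_top] at eB; omega)⟩)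
    rw [hR _ _ _ _ (Submodule.finrank_le _) (Submodule.finrank_le _)] at this
    rw [hdV, hdW]
    rwa [show finrank K W - finrank K A.dualCoannihilator = finrank K A by omega,
      show finrank K V - finrank K B.dualCoannihilator = finrank K B by omega] at this
  · rintro ⟨h0, hs⟩
    refine ⟨by omega, fun V' W' hr hb ht => ?_⟩
    have eV := Subspace.finrank_add_finrank_dualAnnihilator_eq V'
    have eW := Subspace.finrank_add_finrank_dualAnnihilator_eq W'
    have := hs _ _ (isSubrep_dual f hr) (fun ⟨h1, h2⟩ => ht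
      ⟨Submodule.eq_top_of_finrank_eq (by rw [h2, finrank_bot] at eV; omega),
        Submodule.eq_top_of_finrank_eq (by rw [h1, finrank_bot] at eW; omega)⟩) (fun ⟨h1, h2⟩ => hb
      ⟨Submodule.finrank_eq_zero.1 (by rw [h2, finrank_top] at eV; omega),
        Submodule.finrank_eq_zero.1 (by rw [h1, finrank_top] at eW; omega)⟩)
    rw [hdV, hdW] at this
    rw [hR _ _ _ _ (Submodule.finrank_le _) (Submodule.finrank_le _)]
    rwa [show finrank K W - finrank K W' = finrank K W'.dualAnnihilator by omega,
      show finrank K V - finrank K V' = finrank K V'.dualAnnihilator by omega]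

theorem dual_iff : (IsSemistable f ↔ IsSemistable (fun j => (f j).dualMap)) ∧
    (IsStable f ↔ IsStable (fun j => (f j).dualMap)) := by
  refine ⟨cond_dual_iff f (R := (· ≤ ·)) fun dV dW a b ha hb => ?_, cond_dual_iff f (R := (· < ·)) fun dV dW a b ha hb => ?_⟩
  all_goals
    obtain ⟨a', rfl⟩ := Nat.exists_eq_add_of_le ha
    obtain ⟨b', rfl⟩ := Nat.exists_eq_add_of_le hb
    simp only [Nat.add_sub_cancel_left]
    constructor <;> intro h <;> nlinarith

theorem exists_eigen [IsAlgClosed K] {k : ℕ} (hk : 1 ≤ k) (hV : finrank K V = k) (g h : V →ₗ[K] W)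
    (hg : Function.Bijective g) : ∃ (v : V) (c : K), v ≠ 0 ∧ h v = c • g v := by
  haveI : Nontrivial V := Module.nontrivial_of_finrank_pos (R := K) (by omega)
  obtain ⟨c, hc⟩ := Module.End.exists_eigenvalue ((LinearEquiv.ofBijective g hg).symm.toLinearMap ∘ₗ h)
  obtain ⟨v, hv⟩ := hc.exists_hasEigenvector
  refine ⟨v, c, hv.2, ?_⟩
  have := congrArg g hv.apply_eq_smul
  rw [map_smul] at this
  rwa [LinearMap.comp_apply, show g ((LinearEquiv.ofBijective g hg).symm.toLinearMap (h v)) = h v from
    (LinearEquiv.ofBijective g hg).apply_symm_apply (h v)] at this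

theorem exists_bijective_pencil [Infinite K] {k : ℕ} (A B : V →ₗ[K] W) (hV : finrank K V = k) (hW : finrank K W = k)
    (hs : ∀ (V' : Submodule K V) (W' : Submodule K W), V'.map A ≤ W' → V'.map B ≤ W' → finrank K V' ≤ finrank K W') :
    ∃ t : K, Function.Bijective (A + t • B : V →ₗ[K] W) := by
  classical
  by_contra hno
  push_neg at hno
  let bV := Module.finBasisOfFinrankEq K V hV
  let bW := Module.finBasisOfFinrankEq K W hW
  let a := LinearMap.toMatrix bV bW A
  let b := LinearMap.toMatrix bV bW B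
  let M : Matrix (Fin k) (Fin k) (Polynomial K) := a.map (Polynomial.C : K →+* Polynomial K) + (Polynomial.X : Polynomial K) • b.map (Polynomial.C : K →+* Polynomial K)
  have hdet : M.det = 0 := Polynomial.zero_of_eval_zero _ fun t => by
    have he : (Polynomial.evalRingHom t).mapMatrix M = LinearMap.toMatrix bV bW (A + t • B) := by
      ext i j
      simp [M, a, b]
      ring
    rw [← Polynomial.coe_evalRingHom, RingHom.map_det, he]
    by_contra hd
    refine hno t ((LinearMap.injective_iff_surjective_of_finrank_eq_finrank (hV.trans hW.symm)).1 ?_ |> fun hsurj =>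
      ⟨(LinearMap.injective_iff_surjective_of_finrank_eq_finrank (hV.trans hW.symm)).2 hsurj, hsurj⟩)
    refine (injective_iff_map_eq_zero _).2 fun x hx => ?_
    by_contra hx0
    refine hd (Matrix.exists_mulVec_eq_zero_iff.1 ⟨bV.repr x, fun h => hx0 (bV.repr.map_eq_zero_iff.1 (DFunLike.coe_injective h)), ?_⟩)
    rw [LinearMap.toMatrix_mulVec_repr, hx, map_zero, Finsupp.coe_zero]
  obtain ⟨v, hv0, hv⟩ := Matrix.exists_mulVec_eq_zero_iff.2 hdet
  let x : ℕ → V := fun i => bV.equivFun.symm fun j => (v j).coeff i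
  have happ : ∀ (T : V →ₗ[K] W) (i : ℕ) (r : Fin k),
      bW.repr (T (x i)) r = ∑ j, LinearMap.toMatrix bV bW T r j * (v j).coeff i := fun T i r => by
    rw [← LinearMap.toMatrix_mulVec_repr bV bW T (x i)]
    show _ = _
    simp [x, Matrix.mulVec, dotProduct, Module.Basis.equivFun_symm_apply, Finsupp.single_apply]
  have hrow : ∀ r, ∑ j, Polynomial.C (a r j) * v j + Polynomial.X * ∑ j, Polynomial.C (b r j) * v j = 0 := fun r => by
    have := congrFun hv r
    simpa [M, Matrix.mulVec, dotProduct, add_mul, Finset.sum_add_distrib, Finset.mul_sum, mul_assoc, mul_left_comm] using this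
  have hA0 : A (x 0) = 0 := bW.repr.map_eq_zero_iff.1 (Finsupp.ext fun r => by
    have := congrArg (fun p => Polynomial.coeff p 0) (hrow r)
    simp [Polynomial.finsetSum_coeff] at this
    rw [happ]; simpa [a] using this)
  have hAB : ∀ i, A (x (i + 1)) + B (x i) = 0 := fun i => bW.repr.map_eq_zero_iff.1 (Finsupp.ext fun r => by
    have := congrArg (fun p => Polynomial.coeff p (i + 1)) (hrow r)
    simp [Polynomial.finsetSum_coeff, Polynomial.coeff_X_mul] at this
    rw [map_add, Finsupp.add_apply, happ, happ]; simpa [a, b] using this)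
  obtain ⟨j₀, hj₀⟩ : ∃ j, v j ≠ 0 := Function.ne_iff.1 hv0
  let e := Finset.univ.sup fun j => (v j).natDegree
  have hhigh : ∀ i, e < i → x i = 0 := fun i hi => by
    have : (fun j => (v j).coeff i) = 0 := funext fun j => Polynomial.coeff_eq_zero_of_natDegree_lt
      (lt_of_le_of_lt (Finset.le_sup (f := fun j => (v j).natDegree) (Finset.mem_univ j)) hi)
    show bV.equivFun.symm _ = 0
    rw [this, map_zero]
  obtain ⟨j₁, -, hj₁⟩ := Finset.exists_mem_eq_sup Finset.univ ⟨j₀, Finset.mem_univ _⟩ fun j => (v j).natDegree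
  have hxe : ∃ i, x i ≠ 0 := by
    refine ⟨(v j₀).natDegree, fun h => hj₀ ?_⟩
    have := congrFun (bV.equivFun.symm.map_eq_zero_iff.1 h) j₀
    exact Polynomial.leadingCoeff_eq_zero.1 this
  have hfin : {i | x i ≠ 0}.Finite := (Set.finite_Iic e).subset fun i hi => not_lt.1 fun h => hi (hhigh i h)
  obtain ⟨m, hm, hmax⟩ := hfin.exists_maximal hxe
  have hBm : B (x m) = 0 := by
    have hz : x (m + 1) = 0 := by_contra fun h => absurd (hmax h (Nat.le_succ m)) (Nat.not_succ_le_self m)
    simpa [hz] using hAB m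
  let V' := Submodule.span K (Set.range x)
  have hA : V'.map A ≤ V'.map B := by
    rw [Submodule.map_le_iff_le_comap, Submodule.span_le]
    rintro _ ⟨i, rfl⟩
    cases i with
    | zero => show A (x 0) ∈ V'.map B; rw [hA0]; exact zero_mem _
    | succ i =>
      show A (x (i + 1)) ∈ V'.map B
      rw [eq_neg_of_add_eq_zero_left (hAB i)]
      exact neg_mem ⟨_, Submodule.subset_span ⟨i, rfl⟩, rfl⟩
  have h1 := hs V' (V'.map B) hA le_rfl
  have h2 := LinearMap.finrank_range_add_finrank_ker (B ∘ₗ V'.subtype)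
  rw [LinearMap.range_comp, Submodule.range_subtype] at h2
  have h3 : 0 < finrank K (LinearMap.ker (B ∘ₗ V'.subtype)) := by
    refine Nat.pos_of_ne_zero fun h => ?_
    have hmem : (⟨x m, Submodule.subset_span ⟨m, rfl⟩⟩ : V') ∈ LinearMap.ker (B ∘ₗ V'.subtype) := hBm
    rw [Submodule.finrank_eq_zero.1 h, Submodule.mem_bot] at hmem
    exact hm (congrArg Subtype.val hmem)
  omega

theorem exists_bijective_two [IsAlgClosed K] (f : Fin 2 → (V →ₗ[K] W)) {k : ℕ}
    (hV : finrank K V = k) (hW : finrank K W = k) (hf : IsSemistable f) :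
    ∃ z : Fin 2 → K, Function.Bijective ((∑ j, z j • f j : V →ₗ[K] W) : V → W) := by
  obtain ⟨t, ht⟩ := exists_bijective_pencil (f 0) (f 1) hV hW fun V' W' h0 h1 => by
    by_cases hb : V' = ⊥ ∧ W' = ⊥
    · rw [hb.1, finrank_bot]; omega
    by_cases hT : V' = ⊤ ∧ W' = ⊤
    · rw [hT.1, hT.2, finrank_top, finrank_top, hV, hW]
    have := hf.2 V' W' (Fin.forall_fin_two.2 ⟨h0, h1⟩) hb hT
    have h2 := hf.1
    rw [hV, hW] at this
    exact Nat.le_of_mul_le_mul_left this (by omega)
  exact ⟨![1, t], by simpa [Fin.sum_univ_two] using ht⟩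

theorem not_isStable_two [IsAlgClosed K] (f : Fin 2 → (V →ₗ[K] W)) {k : ℕ} (hk : 2 ≤ k)
    (hV : finrank K V = k) (hW : finrank K W = k) : ¬ IsStable f := fun h => by
  obtain ⟨z, hz⟩ := exists_bijective_two f hV hW (isSemistable_of_isStable f h)
  set g := ∑ j, z j • f j with hg
  have hex : ∃ v, v ≠ 0 ∧ ∀ j, f j v ∈ K ∙ g v := by
    rw [Fin.sum_univ_two] at hg
    by_cases h0 : z 0 = 0
    · obtain ⟨v, c, hv, hc⟩ := exists_eigen (by omega) hV g (f 0) hz
      have h1 : z 1 ≠ 0 := fun h1 => by
        haveI : Nontrivial V := Module.nontrivial_of_finrank_pos (R := K) (by omega)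
        obtain ⟨x, hx⟩ := exists_ne (0 : V)
        exact hx (hz.1 (by rw [hg, h0, h1]; simp))
      refine ⟨v, hv, Fin.forall_fin_two.2 ⟨Submodule.mem_span_singleton.2 ⟨c, hc.symm⟩, Submodule.mem_span_singleton.2 ⟨(z 1)⁻¹, ?_⟩⟩⟩
      rw [hg, h0]; simp [h1]
    · obtain ⟨v, c, hv, hc⟩ := exists_eigen (by omega) hV g (f 1) hz
      refine ⟨v, hv, Fin.forall_fin_two.2 ⟨Submodule.mem_span_singleton.2 ⟨(z 0)⁻¹ * (1 - z 1 * c), ?_⟩, Submodule.mem_span_singleton.2 ⟨c, hc.symm⟩⟩⟩
      have hgv : g v = z 0 • f 0 v + z 1 • f 1 v := by rw [hg]; rfl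
      rw [mul_smul, sub_smul, one_smul, mul_smul, ← hc, inv_smul_eq_iff₀ h0, hgv]
      abel
  obtain ⟨v, hv, hmem⟩ := hex
  have hgv : g v ≠ 0 := fun h0 => hv (hz.1 (h0.trans (map_zero g).symm))
  have := h.2 (K ∙ v) (K ∙ g v) (fun j => by
    rw [Submodule.map_span, Set.image_singleton, Submodule.span_le, Set.singleton_subset_iff]; exact hmem j)
    (fun h0 => hv (by simpa using h0.1)) (fun h0 => by
      have := finrank_span_singleton (K := K) hv
      rw [h0.1, finrank_top] at this; omega)
  rw [finrank_span_singleton hv, finrank_span_singleton hgv, hV, hW] at this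
  omega

theorem exists_bijective_dim_two [IsAlgClosed K] (hV : finrank K V = 2) (hW : finrank K W = 2) (hf : IsSemistable f) :
    ∃ z : Fin n → K, Function.Bijective ((∑ j, z j • f j : V →ₗ[K] W) : V → W) := by
  classical
  by_contra hno
  push_neg at hno
  have hker : ∀ z : Fin n → K, LinearMap.ker (∑ j, z j • f j) ≠ ⊥ := fun z h =>
    hno z ⟨LinearMap.ker_eq_bot.1 h, (LinearMap.injective_iff_surjective_of_finrank_eq_finrank (hV.trans hW.symm)).1 (LinearMap.ker_eq_bot.1 h)⟩
  have h1 : ∀ j, ∑ i, (Pi.single j (1 : K) : Fin n → K) i • f i = f j := fun j => by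
    simp [Pi.single_apply]
  have hrk : ∀ j, finrank K (LinearMap.range (f j)) ≤ 1 := fun j => by
    have h := LinearMap.finrank_range_add_finrank_ker (f j)
    have := Nat.pos_of_ne_zero fun h0 => hker _ (by rw [h1 j]; exact Submodule.finrank_eq_zero.1 h0)
    omega
  have hcommon : ∀ (V' : Submodule K V) (W' : Submodule K W), (∀ j, V'.map (f j) ≤ W') → finrank K W' < finrank K V' → False :=
    fun V' W' hr hlt => by
      have := hf.2 V' W' hr (fun h0 => by rw [h0.1, finrank_bot] at hlt; omega)
        (fun h0 => by rw [h0.1, h0.2, finrank_top, finrank_top, hV, hW] at hlt; omega)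
      rw [hV, hW] at this; omega
  obtain ⟨a, ha⟩ : ∃ a, f a ≠ 0 := by
    by_contra hc
    push_neg at hc
    exact hcommon ⊤ ⊥ (fun j => by rw [hc j]; simp) (by rw [finrank_bot, finrank_top, hV]; omega)
  obtain ⟨b, hb⟩ : ∃ b, ¬ LinearMap.range (f b) ≤ LinearMap.range (f a) := by
    by_contra hc
    push_neg at hc
    exact hcommon ⊤ _ (fun j => by rw [Submodule.map_top]; exact hc j) (by rw [finrank_top, hV]; have := hrk a; omega)
  have hpair : ∀ i j, f i ≠ 0 → f j ≠ 0 → LinearMap.range (f i) ≠ LinearMap.range (f j) →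
      LinearMap.ker (f i) = LinearMap.ker (f j) := fun i j hi hj hne => by
    have hd : ∀ j, f j ≠ 0 → finrank K (LinearMap.range (f j)) = 1 ∧ finrank K (LinearMap.ker (f j)) = 1 := fun j hj => by
      have := LinearMap.finrank_range_add_finrank_ker (f j)
      have := hrk j
      have : finrank K (LinearMap.range (f j)) ≠ 0 := fun h => hj (LinearMap.range_eq_bot.1 (Submodule.finrank_eq_zero.1 h))
      omega
    obtain ⟨x, hx, hx0⟩ := Submodule.exists_mem_ne_zero_of_ne_bot (hker (Pi.single i 1 + Pi.single j 1))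
    rw [LinearMap.mem_ker] at hx
    simp only [Pi.add_apply, add_smul, Finset.sum_add_distrib, h1, LinearMap.add_apply] at hx
    have hinf : LinearMap.range (f i) ⊓ LinearMap.range (f j) = ⊥ := by
      by_contra hn
      have h2 := Submodule.finrank_mono (inf_le_left : LinearMap.range (f i) ⊓ LinearMap.range (f j) ≤ _)
      have h3 : finrank K (LinearMap.range (f i) ⊓ LinearMap.range (f j) : Submodule K W) ≠ 0 := fun h => hn (Submodule.finrank_eq_zero.1 h)
      have h4 := (hd i hi).1
      have h5 := (hd j hj).1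
      exact hne ((Submodule.eq_of_le_of_finrank_le inf_le_left (by omega)).symm.trans (Submodule.eq_of_le_of_finrank_le inf_le_right (by omega)))
    have hi0 : f i x = 0 := by
      have : f i x ∈ LinearMap.range (f i) ⊓ LinearMap.range (f j) := ⟨⟨x, rfl⟩, ⟨-x, by
        rw [map_neg, neg_eq_iff_add_eq_zero, add_comm]; exact hx⟩⟩
      rwa [hinf, Submodule.mem_bot] at this
    have hj0 : f j x = 0 := by simpa [hi0] using hx
    have hspan : ∀ l, f l ≠ 0 → f l x = 0 → LinearMap.ker (f l) = K ∙ x := fun l hl hlx =>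
      (Submodule.eq_of_le_of_finrank_le (by rwa [Submodule.span_le, Set.singleton_subset_iff]) (by
        rw [(hd l hl).2, finrank_span_singleton hx0])).symm
    rw [hspan i hi hi0, hspan j hj hj0]
  have hb0 : f b ≠ 0 := fun h => hb (by rw [h, LinearMap.range_zero]; exact bot_le)
  have hab : LinearMap.ker (f a) = LinearMap.ker (f b) := hpair a b ha hb0 fun h => hb h.ge
  refine hcommon (LinearMap.ker (f a)) ⊥ (fun j => ?_) (by
    rw [finrank_bot]
    exact Nat.pos_of_ne_zero fun h => hker _ (by rw [h1 a]; exact Submodule.finrank_eq_zero.1 h))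
  rw [Submodule.map_le_iff_le_comap, Submodule.comap_bot]
  by_cases hj : f j = 0
  · rw [hj, LinearMap.ker_zero]; exact le_top
  by_cases hr : LinearMap.range (f j) = LinearMap.range (f a)
  · rw [hab, hpair j b hj hb0 fun h => hb (hr ▸ h.ge)]
  · rw [hpair j a hj ha hr]

end Groth.Agent.KronModLib
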